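import Groth.Prelude.Def_ArtFun4
import Mathlib.AlgebraicGeometry.Morphisms.Flat
import Mathlib.AlgebraicGeometry.Pullbacks
import Mathlib.RingTheory.Flat.TorsionFree
import Mathlib.RingTheory.DedekindDomain.Basic
import Mathlib.RingTheory.MvPolynomial.Basic

/-!
# The family `x * y = a` of deformations of the node
-/

set_option autoImplicit false
universe u
open CategoryTheory CategoryTheory.Limits AlgebraicGeometry MvPolynomial

namespace Groth.Agent.NodeDef

/-- `f : B → P` with `x, y` is the universal solution of `x * y = b` over `B`. -/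
structure IsNode {B P : Type u} [CommRing B] [CommRing P] (b : B) (f : B →+* P) (x y : P) : Prop where
  rel : x * y = f b
  ext : ∀ {T : Type u} [CommRing T] (p q : P →+* T),
    p.comp f = q.comp f → p x = q x → p y = q y → p = q
  exists_lift : ∀ {T : Type u} [CommRing T] (r : B →+* T) (u v : T), u * v = r b →
    ∃ p : P →+* T, p.comp f = r ∧ p x = u ∧ p y = v

section
variable {B : Type u} [CommRing B]

/-- The ring `B[x,y]/(xy - b)`. -/
abbrev D (b : B) : Type u :=
  MvPolynomial (Fin 2) B ⧸ Ideal.span {(X 0 * X 1 - C b : MvPolynomial (Fin 2) B)}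

/-- The coordinates. -/
noncomputable abbrev dX (b : B) (i : Fin 2) : D b := Ideal.Quotient.mk _ (X i)

theorem isNode_mk (b : B) {I : Ideal (MvPolynomial (Fin 2) B)}
    (hI : I = Ideal.span {(X 0 * X 1 - C b : MvPolynomial (Fin 2) B)}) :
    IsNode b (algebraMap B (MvPolynomial (Fin 2) B ⧸ I)) (Ideal.Quotient.mk I (X 0))
      (Ideal.Quotient.mk I (X 1)) where
  rel := by
    change _ = Ideal.Quotient.mk I (C b)
    rw [← map_mul, Ideal.Quotient.eq, hI]
    exact Ideal.subset_span rfl
  ext p q h hx hy := by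
    refine Ideal.Quotient.ringHom_ext (MvPolynomial.ringHom_ext (fun c => RingHom.congr_fun h c) ?_)
    intro i
    fin_cases i
    · exact hx
    · exact hy
  exists_lift r u v huv := by
    refine ⟨Ideal.Quotient.lift I (eval₂Hom r ![u, v]) ?_, ?_, ?_, ?_⟩
    · intro z hz
      have : I ≤ RingHom.ker (eval₂Hom r ![u, v]) := by
        rw [hI, Ideal.span_le]
        rintro _ rfl
        simp [huv]
      exact this hz
    · ext c
      rw [RingHom.comp_apply, IsScalarTower.algebraMap_apply B (MvPolynomial (Fin 2) B)]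
      simp [Ideal.Quotient.algebraMap_eq]
    · simp
    · simp

theorem isNode_D (b : B) : IsNode b (algebraMap B (D b)) (dX b 0) (dX b 1) := isNode_mk b rfl

end

/-- The node family over `k[t]` with `t = x*y`. -/
noncomputable def tMap (k : Type u) [Field k] : Polynomial k →+* MvPolynomial (Fin 2) k :=
  Polynomial.eval₂RingHom C (X 0 * X 1)

theorem isNode_tMap (k : Type u) [Field k] :
    IsNode (Polynomial.X : Polynomial k) (tMap k) (X 0) (X 1) where
  rel := by simp [tMap]
  ext p q h hx hy := by
    refine MvPolynomial.ringHom_ext (fun c => ?_) ?_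
    · have := RingHom.congr_fun h (Polynomial.C c)
      simpa [tMap] using this
    · intro i
      fin_cases i
      · exact hx
      · exact hy
  exists_lift r u v huv := by
    refine ⟨eval₂Hom (r.comp Polynomial.C) ![u, v], ?_, by simp, by simp⟩
    refine Polynomial.ringHom_ext (fun c => ?_) ?_
    · simp [tMap]
    · simp [tMap, huv]

/-- Node algebras form pushout squares. -/
theorem isPushout_of_isNode {A B P Q : Type u} [CommRing A] [CommRing B] [CommRing P] [CommRing Q]
    {a : A} {b : B} {fA : A →+* P} {x y : P} (hP : IsNode a fA x y)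
    {fB : B →+* Q} {x' y' : Q} (hQ : IsNode b fB x' y')
    (g : A →+* B) (hg : g a = b) (h : P →+* Q) (hc : h.comp fA = fB.comp g)
    (hx : h x = x') (hy : h y = y') :
    IsPushout (CommRingCat.ofHom fA) (CommRingCat.ofHom g) (CommRingCat.ofHom h)
      (CommRingCat.ofHom fB) := by
  classical
  have key : ∀ s : PushoutCocone (CommRingCat.ofHom fA) (CommRingCat.ofHom g),
      ∃ p : Q →+* s.pt, p.comp fB = s.inr.hom ∧ p x' = s.inl.hom x ∧ p y' = s.inl.hom y := by
    intro s
    refine hQ.exists_lift s.inr.hom (s.inl.hom x) (s.inl.hom y) ?_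
    rw [← map_mul, hP.rel, ← hg]
    exact RingHom.congr_fun (congrArg CommRingCat.Hom.hom s.condition) a
  choose p hp1 hp2 hp3 using key
  have w : CommRingCat.ofHom fA ≫ CommRingCat.ofHom h =
      CommRingCat.ofHom g ≫ CommRingCat.ofHom fB := by
    rw [← CommRingCat.ofHom_comp, ← CommRingCat.ofHom_comp, hc]
  refine ⟨⟨w⟩, ⟨PushoutCocone.IsColimit.mk w (fun s => CommRingCat.ofHom (p s)) (fun s => ?_)
    (fun s => ?_) (fun s m hm1 hm2 => ?_)⟩⟩
  · apply CommRingCat.hom_ext
    apply hP.ext
    · have h2 := congrArg CommRingCat.Hom.hom s.condition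
      change ((p s).comp h).comp fA = s.inl.hom.comp fA
      rw [RingHom.comp_assoc, hc, ← RingHom.comp_assoc, hp1]
      exact h2.symm
    · change p s (h x) = _
      rw [hx, hp2]
    · change p s (h y) = _
      rw [hy, hp3]
  · apply CommRingCat.hom_ext
    exact hp1 s
  · apply CommRingCat.hom_ext
    apply hQ.ext
    · change m.hom.comp fB = (p s).comp fB
      rw [hp1]
      exact congrArg CommRingCat.Hom.hom hm2
    · change m.hom x' = p s x'
      rw [hp2, ← hx]
      exact RingHom.congr_fun (congrArg CommRingCat.Hom.hom hm1) x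
    · change m.hom y' = p s y'
      rw [hp3, ← hy]
      exact RingHom.congr_fun (congrArg CommRingCat.Hom.hom hm1) y

theorem tMap_injective (k : Type u) [Field k] : Function.Injective (tMap k) := by
  have : (eval₂Hom (Polynomial.C : k →+* Polynomial k) ![Polynomial.X, 1]).comp (tMap k)
      = RingHom.id _ := Polynomial.ringHom_ext (fun c => by simp [tMap]) (by simp [tMap])
  exact Function.LeftInverse.injective
    (g := eval₂Hom (Polynomial.C : k →+* Polynomial k) ![Polynomial.X, 1])
    (RingHom.congr_fun this)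

theorem flat_tMap (k : Type u) [Field k] : (tMap k).Flat := by
  algebraize [tMap k]
  haveI : Module.IsTorsionFree (Polynomial k) (MvPolynomial (Fin 2) k) :=
    Module.isTorsionFree_iff_algebraMap_injective.mpr (tMap_injective k)
  exact inferInstanceAs (Module.Flat (Polynomial k) (MvPolynomial (Fin 2) k))

/-- Node algebras over a `k`-algebra are flat. -/
theorem flat_of_isNode (k : Type u) [Field k] {B Q : Type u} [CommRing B] [CommRing Q]
    [Algebra k B] {b : B} {fB : B →+* Q} {x' y' : Q} (hQ : IsNode b fB x' y') :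
    Flat (Spec.map (CommRingCat.ofHom fB)) := by
  let g : Polynomial k →+* B := Polynomial.eval₂RingHom (algebraMap k B) b
  obtain ⟨h, hc, hx, hy⟩ := (isNode_tMap k).exists_lift (fB.comp g) x' y'
    (by rw [hQ.rel]; simp [g])
  exact MorphismProperty.of_isPullback
    (isPullback_SpecMap_of_isPushout _ _ _ _
      (isPushout_of_isNode (isNode_tMap k) hQ g (by simp [g]) h hc hx hy))
    (Flat.SpecMap_iff.mpr (flat_tMap k))

section Defo
open ArtFun
variable (k : Type u) [Field k]

/-- The coordinate ring of the node. -/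
abbrev B0 : Type u :=
  MvPolynomial (Fin 2) k ⧸ Ideal.span {(X 0 * X 1 : MvPolynomial (Fin 2) k)}

theorem isNode_B0 : IsNode (0 : k) (algebraMap k (B0 k)) (Ideal.Quotient.mk _ (X 0))
    (Ideal.Quotient.mk _ (X 1)) := isNode_mk 0 (by rw [map_zero, sub_zero])

/-- The node as a scheme. -/
noncomputable abbrev node : Scheme.{u} := Spec (CommRingCat.of (B0 k))

/-- Its structure map. -/
noncomputable abbrev nodeMap : node k ⟶ Spec (CommRingCat.of k) :=
  Spec.map (CommRingCat.ofHom (algebraMap k (B0 k)))

variable {k}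

theorem exists_q (A : Art k k) (a : A) (ha : A.res a = 0) :
    ∃ q : D a →+* B0 k, q.comp (algebraMap A (D a)) = (algebraMap k (B0 k)).comp A.res.toRingHom
      ∧ q (dX a 0) = Ideal.Quotient.mk _ (X 0) ∧ q (dX a 1) = Ideal.Quotient.mk _ (X 1) :=
  (isNode_D a).exists_lift _ _ _ (by
    rw [(isNode_B0 k).rel]
    exact congrArg _ ha.symm)

/-- Reduction to the closed fibre. -/
noncomputable def q (A : Art k k) (a : A) (ha : A.res a = 0) : D a →+* B0 k :=
  (exists_q A a ha).choose

theorem q_spec (A : Art k k) (a : A) (ha : A.res a = 0) :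
    (q A a ha).comp (algebraMap A (D a)) = (algebraMap k (B0 k)).comp A.res.toRingHom
      ∧ q A a ha (dX a 0) = Ideal.Quotient.mk _ (X 0)
      ∧ q A a ha (dX a 1) = Ideal.Quotient.mk _ (X 1) :=
  (exists_q A a ha).choose_spec

/-- The deformation `x * y = a`. -/
@[reducible] noncomputable def dSch (A : Art k k) (a : A) (ha : A.res a = 0) :
    DefSch (node k) (nodeMap k) A where
  total := Spec (CommRingCat.of (D a))
  f := Spec.map (CommRingCat.ofHom (algebraMap A (D a)))
  flat := flat_of_isNode k (isNode_D a)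
  i := Spec.map (CommRingCat.ofHom (q A a ha))
  isPullback := isPullback_SpecMap_of_isPushout _ _ _ _
    (isPushout_of_isNode (isNode_D a) (isNode_B0 k) A.res.toRingHom ha _
      (q_spec A a ha).1 (q_spec A a ha).2.1 (q_spec A a ha).2.2)

/-- Its class. -/
noncomputable def dcl (A : Art k k) (a : A) (ha : A.res a = 0) :
    (defFunctor (node k) (nodeMap k)).obj A :=
  (dSch A a ha).cl

theorem dcl_congr (A : Art k k) {a a' : A} (h : a = a') (ha : A.res a = 0) (ha' : A.res a' = 0) :
    dcl A a ha = dcl A a' ha' := by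
  subst h
  rfl

theorem map_dcl {A B : Art k k} (g : A ⟶ B) (a : A) (ha : A.res a = 0) (hb : B.res (g a) = 0) :
    (defFunctor (node k) (nodeMap k)).map g (dcl A a ha) = dcl B (g a) hb := by
  obtain ⟨h, hc, hx, hy⟩ := (isNode_D a).exists_lift
    ((algebraMap B (D (g a))).comp g.toAlgHom.toRingHom) (dX (g a) 0) (dX (g a) 1)
    (by rw [(isNode_D (g a)).rel]; rfl)
  have hpb := isPullback_SpecMap_of_isPushout _ _ _ _
    (isPushout_of_isNode (isNode_D a) (isNode_D (g a)) g.toAlgHom.toRingHom rfl h hc hx hy)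
  have hq : (q B (g a) hb).comp h = q A a ha := by
    apply (isNode_D a).ext
    · rw [RingHom.comp_assoc, hc, ← RingHom.comp_assoc, (q_spec B (g a) hb).1, (q_spec A a ha).1,
        RingHom.comp_assoc]
      exact congrArg _ (congrArg AlgHom.toRingHom g.res_comp)
    · rw [RingHom.comp_apply, hx, (q_spec A a ha).2.1, (q_spec B (g a) hb).2.1]
    · rw [RingHom.comp_apply, hy, (q_spec A a ha).2.2, (q_spec B (g a) hb).2.2]
  rw [dcl, defFunctor_map_cl]
  refine Quotient.sound ⟨DefSch.Iso.symm ⟨hpb.isoPullback, hpb.isoPullback_hom_snd, ?_⟩⟩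
  apply pullback.hom_ext
  · rw [Category.assoc, hpb.isoPullback_hom_fst, DefSch.baseChange_i_fst]
    rw [← Spec.map_comp, ← CommRingCat.ofHom_comp, hq]
  · rw [Category.assoc, hpb.isoPullback_hom_snd]
    exact ((dSch B (g a) hb).i_f).trans (DefSch.baseChange_i_f (dSch A a ha) g).symm

/-- Scaling the parameter by a unit congruent to `1`. -/
theorem dcl_unit_mul (A : Art k k) (c : Aˣ) (hc : A.res c = 1) (a : A) (ha : A.res a = 0)
    (hca : A.res ((c : A) * a) = 0) : dcl A ((c : A) * a) hca = dcl A a ha := by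
  set f := algebraMap A (D a) with hf
  set f' := algebraMap A (D ((c : A) * a)) with hf'
  obtain ⟨p, hp, hpx, hpy⟩ := (isNode_D ((c : A) * a)).exists_lift f (f c * dX a 0) (dX a 1)
    (by rw [map_mul, mul_assoc, (isNode_D a).rel])
  obtain ⟨p', hp', hpx', hpy'⟩ := (isNode_D a).exists_lift f'
    (f' ↑c⁻¹ * dX ((c : A) * a) 0) (dX ((c : A) * a) 1)
    (by rw [mul_assoc, (isNode_D ((c : A) * a)).rel, ← map_mul, ← mul_assoc, Units.inv_mul, one_mul])
  have h1 : p'.comp p = RingHom.id _ := by
    apply (isNode_D ((c : A) * a)).ext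
    · rw [RingHom.comp_assoc, hp, hp', RingHom.id_comp]
    · rw [RingHom.comp_apply, hpx, map_mul, hpx', RingHom.id_apply, ← mul_assoc,
        ← RingHom.comp_apply, hp', ← map_mul, Units.mul_inv, map_one, one_mul]
    · rw [RingHom.comp_apply, hpy, hpy', RingHom.id_apply]
  have h2 : p.comp p' = RingHom.id _ := by
    apply (isNode_D a).ext
    · rw [RingHom.comp_assoc, hp', hp, RingHom.id_comp]
    · rw [RingHom.comp_apply, hpx', map_mul, hpx, RingHom.id_apply, ← mul_assoc,
        ← RingHom.comp_apply, hp, ← map_mul, Units.inv_mul, map_one, one_mul]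
    · rw [RingHom.comp_apply, hpy', hpy, RingHom.id_apply]
  refine Quotient.sound ⟨⟨⟨Spec.map (CommRingCat.ofHom p'), Spec.map (CommRingCat.ofHom p), ?_, ?_⟩,
    ?_, ?_⟩⟩
  · rw [← Spec.map_comp, ← CommRingCat.ofHom_comp, h1, CommRingCat.ofHom_id, Spec.map_id]
  · rw [← Spec.map_comp, ← CommRingCat.ofHom_comp, h2, CommRingCat.ofHom_id, Spec.map_id]
  · change Spec.map _ ≫ Spec.map _ = Spec.map _
    rw [← Spec.map_comp, ← CommRingCat.ofHom_comp]
    congr 2
  · change Spec.map _ ≫ Spec.map _ = Spec.map _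
    rw [← Spec.map_comp, ← CommRingCat.ofHom_comp]
    congr 2
    apply (isNode_D a).ext
    · rw [RingHom.comp_assoc, hp', (q_spec A _ hca).1, (q_spec A a ha).1]
    · rw [RingHom.comp_apply, hpx', map_mul, (q_spec A _ hca).2.1, (q_spec A a ha).2.1,
        hf', ← RingHom.comp_apply, (q_spec A _ hca).1]
      have hcinv : A.res (↑c⁻¹ : A) = 1 := by
        have := congrArg A.res (Units.inv_mul c)
        rwa [map_mul, hc, mul_one, map_one] at this
      change algebraMap k (B0 k) (A.res (↑c⁻¹ : A)) * _ = _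
      rw [hcinv, map_one, one_mul]
    · rw [RingHom.comp_apply, hpy', (q_spec A _ hca).2.2, (q_spec A a ha).2.2]

/-- Equal classes give a ring map compatible with the reductions. -/
theorem exists_map_of_dcl_eq (A : Art k k) (a a' : A) (ha : A.res a = 0) (ha' : A.res a' = 0)
    (h : dcl A a ha = dcl A a' ha') :
    ∃ ψ : D a' →+* D a, ψ.comp (algebraMap A (D a')) = algebraMap A (D a)
      ∧ (q A a ha).comp ψ = q A a' ha' := by
  obtain ⟨e⟩ := Quotient.exact h
  have h1 := e.hom_f
  have h2 := e.i_hom
  obtain ⟨ψ, hψ⟩ : ∃ ψ : CommRingCat.of (D a') ⟶ CommRingCat.of (D a), Spec.map ψ = e.iso.hom :=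
    ⟨Spec.preimage e.iso.hom, Spec.map_preimage _⟩
  rw [← hψ] at h1 h2
  refine ⟨ψ.hom, ?_, ?_⟩
  · have := Spec.map_injective ((Spec.map_comp _ _).trans h1)
    exact congrArg CommRingCat.Hom.hom this
  · have := Spec.map_injective ((Spec.map_comp _ _).trans h2)
    exact congrArg CommRingCat.Hom.hom this

end Defo

end Groth.Agent.NodeDef
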